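import Cfsg.Agent.Lib.Spor.HN.CubeWord.Part0

/-!
The cube of the central word lies in ⟨x, y³⟩: the assembled checks.
-/

set_option autoImplicit false

namespace CfsgLib.Spor.HN.CubeWord

open CfsgLib.Spor.TC

theorem steps_ok : cert.SStepsOK 0 5983 :=
  (steps0.append _ steps3847)

set_option maxRecDepth 100000 in
theorem trace0 : cert.sTraceOK 5983 [1, 2, 2, 1, 3, 1, 3, 1, 2, 2, 0, 3, 3, 0, 2, 0, 2, 0, 3, 3, 1, 2, 2, 1, 3, 1, 3, 1, 2, 2, 0, 3, 3, 0, 2, 0, 2, 0, 3, 3, 1, 2, 2, 1, 3, 1, 3, 1, 2, 2, 0, 3, 3, 0, 2, 0, 2, 0, 3, 3] 0x4000060000a0000c0000e000100001200014000160004f0001a0001c0001e00020000220002400026000280002a000480002e00030000320003400036000380003a0003c0003e02ebe0003d0003b00039000370003500033000310002f0002d0002b00029000270002500023000210001f0001d0001b00019000170001500013000110000f0000d0000b00009000050000300002 = true := by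
  decide +kernel

end CfsgLib.Spor.HN.CubeWord
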